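import Mathlib.Algebra.Module.Basic
import Mathlib.Tactic.Ring
import Mathlib.Tactic.Abel
import Mathlib.Tactic.Module
import Mathlib.Tactic.LinearCombination
import Mathlib.Data.Int.NatPrime
import Mathlib.Algebra.Ring.Parity

/-!
Maps of degree two between abelian groups: the value at multiples.
-/

universe u v

namespace Groth.Agent.PtDeg6

variable {A : Type u} {G : Type v} [AddCommGroup A] [AddCommGroup G]

theorem tri_even (n : ℤ) : (2 : ℤ) ∣ n * (n + 1) := (Int.even_mul_succ_self n).two_dvd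

theorem tri_succ (n : ℤ) : (n + 1) * (n + 1 + 1) / 2 = n * (n + 1) / 2 + (n + 1) := by
  rw [show (n + 1) * (n + 1 + 1) = n * (n + 1) + (n + 1) * 2 by ring,
    Int.add_mul_ediv_right _ _ (by norm_num : (2 : ℤ) ≠ 0)]

theorem tri_pred (n : ℤ) : (n - 1) * (n - 1 + 1) / 2 = n * (n + 1) / 2 - n := by
  have h := tri_succ (n - 1)
  have e : n - 1 + 1 = n := by ring
  rw [e] at h ⊢
  omega

theorem tri_pred' (n : ℤ) : n * (n - 1) / 2 = n * (n + 1) / 2 - n := by
  have h := tri_pred n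
  have e : n - 1 + 1 = n := by ring
  rw [e, mul_comm] at h
  exact h

theorem map_zero_of_degTwo (f : A → G)
    (hf : ∀ x y z : A, f (x + y + z) + f x + f y + f z = f (x + y) + f (x + z) + f (y + z)) :
    f 0 = 0 := by
  have h := hf 0 0 0
  simp only [add_zero] at h
  have h' : f 0 + f 0 + f 0 + f 0 = f 0 + f 0 + f 0 + 0 := by rw [add_zero]; exact h
  exact add_left_cancel h'

theorem step (f : A → G)
    (hf : ∀ x y z : A, f (x + y + z) + f x + f y + f z = f (x + y) + f (x + z) + f (y + z))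
    (n : ℤ) (x : A) :
    f ((n + 1) • x) = f (n • x) + f (n • x) - f ((n - 1) • x) + f x + f (-x) := by
  have h := hf (n • x) x (-x)
  rw [add_neg_cancel_right, add_neg_cancel, map_zero_of_degTwo f hf] at h
  have e1 : n • x + x = (n + 1) • x := by rw [add_smul, one_smul]
  have e2 : n • x + -x = (n - 1) • x := by rw [sub_smul, one_smul, sub_eq_add_neg]
  rw [e1, e2, add_zero] at h
  rw [eq_sub_of_add_eq (h.symm)]
  abel

theorem formula (f : A → G)
    (hf : ∀ x y z : A, f (x + y + z) + f x + f y + f z = f (x + y) + f (x + z) + f (y + z))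
    (n : ℤ) (x : A) :
    f (n • x) = (n * (n + 1) / 2) • f x + (n * (n - 1) / 2) • f (-x) := by
  rw [tri_pred']
  suffices h : ∀ n : ℤ,
      f (n • x) = (n * (n + 1) / 2) • f x + (n * (n + 1) / 2 - n) • f (-x) ∧
      f ((n + 1) • x) = ((n + 1) * (n + 1 + 1) / 2) • f x +
        ((n + 1) * (n + 1 + 1) / 2 - (n + 1)) • f (-x) from (h n).1
  intro n
  induction n with
  | zero => simp [map_zero_of_degTwo f hf]
  | succ k ih =>
    refine ⟨ih.2, ?_⟩
    have hs := step f hf ((k : ℤ) + 1) x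
    rw [add_sub_cancel_right, ih.2, ih.1] at hs
    rw [hs, tri_succ ((k : ℤ) + 1), tri_succ (k : ℤ)]
    module
  | pred k ih =>
    have hs := step f hf (-(k : ℤ)) x
    have e : -(k : ℤ) - 1 + 1 = -(k : ℤ) := by ring
    refine ⟨?_, by rw [e]; exact ih.1⟩
    rw [ih.1, ih.2, tri_succ (-(k : ℤ))] at hs
    rw [tri_pred (-(k : ℤ))]
    have hs' : f ((-(k : ℤ) - 1) • x) =
        (((-(k : ℤ)) * (-(k : ℤ) + 1) / 2) • f x + ((-(k : ℤ)) * (-(k : ℤ) + 1) / 2 - -(k : ℤ)) • f (-x)) +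
        (((-(k : ℤ)) * (-(k : ℤ) + 1) / 2) • f x + ((-(k : ℤ)) * (-(k : ℤ) + 1) / 2 - -(k : ℤ)) • f (-x)) +
        f x + f (-x) -
        (((-(k : ℤ)) * (-(k : ℤ) + 1) / 2 + (-(k : ℤ) + 1)) • f x +
          ((-(k : ℤ)) * (-(k : ℤ) + 1) / 2 + (-(k : ℤ) + 1) - (-(k : ℤ) + 1)) • f (-x)) := by
      rw [hs]; abel
    rw [hs']
    module

end Groth.Agent.PtDeg6
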